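/-
Brauer–Suzuki for quaternion Sylow 2-subgroups of order at least 16, part 1: the local structure.
Main results: `quat_facts`, `Setup`, `Setup.C`, `Setup.Nz`, `Setup.a_sylow`, `Setup.K`,
`Setup.mem_A_conj`, `Setup.mem_normalizer_of_conj`, `Setup.relIndex_two`, `Setup.eq_z_conj`.
-/
import Cfsg.Agent.EqLemmas

set_option autoImplicit false

namespace Cfsg.Agent.BS16

open scoped commutatorElement

/-- A group with a quaternion Sylow 2-subgroup of order at least 16, with chosen generators. -/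
structure Setup (G : Type*) [Group G] where
  S : Sylow 2 G
  n : ℕ
  a : G
  b : G
  ha : a ∈ (S : Subgroup G)
  hb : b ∈ (S : Subgroup G)
  card_S : Nat.card (S : Subgroup G) = 2 ^ (n + 4)
  order_a : orderOf a = 2 ^ (n + 3)
  conj_a : b * a * b⁻¹ = a⁻¹
  b_sq : b ^ 2 = a ^ 2 ^ (n + 2)
  cases_S : ∀ x ∈ (S : Subgroup G), (∃ i : ℕ, x = a ^ i) ∨ ∃ i : ℕ, x = b * a ^ i

theorem exists_setup {G : Type*} [Group G] (S : Sylow 2 G) (n : ℕ)
    (e : (S : Subgroup G) ≃* QuaternionGroup (2 ^ (n + 2))) :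
    ∃ σ : Setup G, σ.S = S ∧ σ.n = n := by
  haveI : NeZero (2 ^ (n + 2)) := ⟨pow_ne_zero _ two_ne_zero⟩
  haveI : NeZero (2 * 2 ^ (n + 2)) := ⟨by positivity⟩
  let f : QuaternionGroup (2 ^ (n + 2)) →* G := (S : Subgroup G).subtype.comp e.symm.toMonoidHom
  have hf : Function.Injective f := (S : Subgroup G).subtype_injective.comp e.symm.injective
  refine ⟨⟨S, n, f (QuaternionGroup.a 1), f (QuaternionGroup.xa 0), (e.symm _).2, (e.symm _).2, ?_, ?_, ?_, ?_, ?_⟩,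
    rfl, rfl⟩
  · rw [Nat.card_congr e.toEquiv, Nat.card_eq_fintype_card, QuaternionGroup.card]
    ring
  · rw [orderOf_injective f hf, QuaternionGroup.orderOf_a_one]
    ring
  · rw [← map_mul, ← map_inv, ← map_mul, ← map_inv]
    refine congrArg f ?_
    rw [QuaternionGroup.xa_mul_a, mul_inv_eq_iff_eq_mul]
    change _ = QuaternionGroup.a (-1) * _
    rw [QuaternionGroup.a_mul_xa]
    simp
  · rw [← map_pow, ← map_pow, QuaternionGroup.a_one_pow]
    refine congrArg f ?_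
    rw [QuaternionGroup.xa_sq]
  · intro x hx
    have : f (e ⟨x, hx⟩) = x := by simp [f]
    rw [← this]
    rcases e ⟨x, hx⟩ with i | i
    · exact Or.inl ⟨i.val, by rw [← map_pow, QuaternionGroup.a_one_pow, ZMod.natCast_rightInverse i]⟩
    · refine Or.inr ⟨i.val, ?_⟩
      rw [← map_pow, ← map_mul, QuaternionGroup.a_one_pow, ZMod.natCast_rightInverse i,
        QuaternionGroup.xa_mul_a, zero_add]

namespace Setup

variable {G : Type*} [Group G] (σ : Setup G)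

/-- The central involution of the quaternion group. -/
def z : G := σ.a ^ 2 ^ (σ.n + 2)

/-- The derived subgroup of the quaternion group. -/
def D : Subgroup G := Subgroup.zpowers (σ.a ^ 2)

theorem orderOf_z : orderOf σ.z = 2 := by
  rw [z, orderOf_pow_of_dvd (pow_ne_zero _ two_ne_zero) (σ.order_a ▸ pow_dvd_pow 2 (by omega)),
    σ.order_a, Nat.pow_div (by omega) two_pos, show σ.n + 3 - (σ.n + 2) = 1 by omega, pow_one]

theorem card_D : Nat.card σ.D = 2 ^ (σ.n + 2) := by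
  rw [D, Nat.card_zpowers, orderOf_pow_of_dvd two_ne_zero (σ.order_a ▸ dvd_pow_self 2 (by omega)),
    σ.order_a]
  conv_lhs => arg 2; rw [← pow_one 2]
  rw [Nat.pow_div (by omega) two_pos, show σ.n + 3 - 1 = σ.n + 2 by omega]

theorem D_le_S : σ.D ≤ (σ.S : Subgroup G) := Subgroup.zpowers_le.2 (pow_mem σ.ha 2)

theorem D_eq_of_derived {S : Sylow 2 G} (h : σ.S = S) :
    ⁅(S : Subgroup G), (S : Subgroup G)⁆ = σ.D := by
  subst h
  have hinv : ∀ i : ℕ, σ.b * σ.a ^ i * σ.b⁻¹ = (σ.a ^ i)⁻¹ := fun i => by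
    rw [← conj_pow, σ.conj_a, inv_pow]
  apply le_antisymm
  · rw [Subgroup.commutator_le]
    intro x hx y hy
    have key : ∀ i j : ℕ, ⁅σ.b * σ.a ^ i, σ.a ^ j⁆ ∈ σ.D := by
      intro i j
      have : ⁅σ.b * σ.a ^ i, σ.a ^ j⁆ = ((σ.a ^ 2) ^ j)⁻¹ := by
        rw [commutatorElement_def]
        calc σ.b * σ.a ^ i * σ.a ^ j * (σ.b * σ.a ^ i)⁻¹ * (σ.a ^ j)⁻¹
            = σ.b * (σ.a ^ i * σ.a ^ j * (σ.a ^ i)⁻¹) * σ.b⁻¹ * (σ.a ^ j)⁻¹ := by group
          _ = σ.b * σ.a ^ j * σ.b⁻¹ * (σ.a ^ j)⁻¹ := by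
              rw [(Commute.pow_pow_self σ.a i j).eq, mul_inv_cancel_right]
          _ = _ := by rw [hinv, ← mul_inv_rev, ← pow_add, ← pow_mul, two_mul]
      rw [this]
      exact inv_mem (pow_mem (Subgroup.mem_zpowers _) _)
    rcases σ.cases_S x hx with ⟨i, rfl⟩ | ⟨i, rfl⟩ <;> rcases σ.cases_S y hy with ⟨j, rfl⟩ | ⟨j, rfl⟩
    · rw [commutatorElement_eq_one_iff_commute.2 (Commute.pow_pow_self σ.a i j)]; exact one_mem _
    · rw [← commutatorElement_inv]; exact inv_mem (key j i)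
    · exact key i j
    · have hd : ∀ d ∈ σ.D, σ.b * d * σ.b⁻¹ ∈ σ.D := by
        intro d hd
        obtain ⟨m, rfl⟩ := Subgroup.mem_zpowers_iff.1 hd
        rw [← conj_zpow, hinv 2]
        exact zpow_mem (inv_mem (Subgroup.mem_zpowers _)) m
      have hd' : ∀ d ∈ σ.D, ∀ k : ℕ, σ.a ^ k * d * (σ.a ^ k)⁻¹ = d := by
        intro d hd k
        obtain ⟨m, rfl⟩ := Subgroup.mem_zpowers_iff.1 hd
        rw [((Commute.pow_pow_self σ.a k 2).zpow_right m).eq, mul_inv_cancel_right]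
      rw [show σ.b * σ.a ^ j = σ.b * σ.a ^ i * ((σ.a ^ i)⁻¹ * σ.a ^ j) by group]
      have hc : ⁅σ.b * σ.a ^ i, σ.b * σ.a ^ i * ((σ.a ^ i)⁻¹ * σ.a ^ j)⁆ =
          σ.b * (σ.a ^ i * ⁅σ.b * σ.a ^ i, (σ.a ^ i)⁻¹ * σ.a ^ j⁆ * (σ.a ^ i)⁻¹) * σ.b⁻¹ := by
        simp only [commutatorElement_def]; group
      rw [hc]
      refine hd _ ?_
      obtain ⟨m, hm⟩ : ∃ m : ℕ, (σ.a ^ i)⁻¹ * σ.a ^ j = σ.a ^ m := by
        refine ⟨(2 ^ (σ.n + 3) - 1) * i + j, ?_⟩
        rw [pow_add]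
        congr 1
        refine inv_eq_of_mul_eq_one_left ?_
        rw [← pow_add, ← Nat.succ_mul, show Nat.succ ((2 : ℕ) ^ (σ.n + 3) - 1) = 2 ^ (σ.n + 3) by
          have := Nat.two_pow_pos (σ.n + 3); omega, ← σ.order_a, pow_mul, pow_orderOf_eq_one, one_pow]
      rw [hm, hd' _ (key i m)]
      exact key i m
  · rw [D, Subgroup.zpowers_le]
    have h2 : σ.a ^ 2 = ⁅σ.a, σ.b⁆ := by
      rw [commutatorElement_def]
      calc σ.a ^ 2 = σ.a * (σ.b * σ.a * σ.b⁻¹)⁻¹ := by rw [σ.conj_a, inv_inv, pow_two]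
        _ = _ := by group
    rw [h2]
    exact Subgroup.commutator_mem_commutator σ.ha σ.hb

theorem not_commute_D {i : ℕ} : ¬ Commute (σ.a ^ 2) (σ.b * σ.a ^ i) := by
  intro h
  have h1 : σ.b * σ.a ^ 2 * σ.b⁻¹ = σ.a ^ 2 := by
    have := h.eq
    rw [← mul_assoc] at this
    have e2 : σ.a ^ 2 * σ.b = σ.b * σ.a ^ 2 := by
      apply mul_right_cancel (b := σ.a ^ i)
      rw [this, mul_assoc, mul_assoc, (Commute.pow_pow_self σ.a i 2).eq]
    rw [← e2, mul_inv_cancel_right]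
  rw [← conj_pow, σ.conj_a, inv_pow, inv_eq_iff_mul_eq_one, ← pow_add, ← orderOf_dvd_iff_pow_eq_one,
    σ.order_a] at h1
  have := Nat.le_of_dvd (by norm_num) h1
  have h8 : 2 ^ 3 ≤ 2 ^ (σ.n + 3) := Nat.pow_le_pow_right (by norm_num) (by omega)
  omega

/-- An element of `S` commuting with `a ^ 2` is a power of `a`. -/
theorem mem_A_of_commute {x : G} (hx : x ∈ (σ.S : Subgroup G)) (h : Commute (σ.a ^ 2) x) :
    x ∈ Subgroup.zpowers σ.a := by
  rcases σ.cases_S x hx with ⟨i, rfl⟩ | ⟨i, rfl⟩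
  · exact pow_mem (Subgroup.mem_zpowers _) i
  · exact absurd h σ.not_commute_D

theorem sq_bai (i : ℕ) : (σ.b * σ.a ^ i) ^ 2 = σ.z := by
  rw [pow_two]
  calc σ.b * σ.a ^ i * (σ.b * σ.a ^ i) = (σ.b * σ.a ^ i * σ.b⁻¹) * (σ.b ^ 2 * σ.a ^ i) := by
        rw [pow_two]; group
    _ = (σ.a ^ i)⁻¹ * (σ.a ^ 2 ^ (σ.n + 2) * σ.a ^ i) := by rw [← conj_pow, σ.conj_a, inv_pow, σ.b_sq]
    _ = σ.z := by rw [(Commute.pow_pow_self σ.a _ i).eq, inv_mul_cancel_left]; rfl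

/-- The only involution of `S` is `z`. -/
theorem eq_z {x : G} (hx : x ∈ (σ.S : Subgroup G)) (h : orderOf x = 2) : x = σ.z := by
  have hx2 : x ^ 2 = 1 := h ▸ pow_orderOf_eq_one x
  rcases σ.cases_S x hx with ⟨i, rfl⟩ | ⟨i, rfl⟩
  · rw [← pow_mul, ← orderOf_dvd_iff_pow_eq_one, σ.order_a, show 2 ^ (σ.n + 3) = 2 ^ (σ.n + 2) * 2 by ring] at hx2
    obtain ⟨j, rfl⟩ : 2 ^ (σ.n + 2) ∣ i := (Nat.mul_dvd_mul_iff_right two_pos).1 hx2
    rw [pow_mul] at h ⊢
    change orderOf (σ.z ^ j) = 2 at h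
    change σ.z ^ j = σ.z
    rcases Nat.even_or_odd j with ⟨k, rfl⟩ | ⟨k, rfl⟩
    · rw [← two_mul, pow_mul, ← σ.orderOf_z, pow_orderOf_eq_one, one_pow, orderOf_one, σ.orderOf_z] at h
      exact absurd h (by norm_num)
    · rw [pow_succ, pow_mul, ← σ.orderOf_z, pow_orderOf_eq_one, one_pow, one_mul]
  · rw [σ.sq_bai] at hx2
    exact absurd (hx2 ▸ σ.orderOf_z : orderOf (1 : G) = 2) (by simp)

variable [Finite G]

/-- All involutions are conjugate to `z`. -/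
theorem isConj_z {x : G} (h : orderOf x = 2) : IsConj σ.z x := by
  have hP : IsPGroup 2 (Subgroup.zpowers x) :=
    IsPGroup.of_card (n := 1) (by rw [Nat.card_zpowers, h, pow_one])
  obtain ⟨T, hT⟩ := hP.exists_le_sylow
  obtain ⟨g, hg⟩ := MulAction.exists_smul_eq G T σ.S
  have hmem : g * x * g⁻¹ ∈ (σ.S : Subgroup G) := by
    rw [← hg]
    exact ⟨x, hT (Subgroup.mem_zpowers x), rfl⟩
  have := σ.eq_z hmem (h ▸ MulEquiv.orderOf_eq (MulAut.conj g) x)
  exact (isConj_iff.2 ⟨g, this⟩).symm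

/-- The centraliser of `D`. -/
def C : Subgroup G := Subgroup.centralizer (σ.D : Set G)

/-- The normaliser of `D`. -/
def Nz : Subgroup G := Subgroup.normalizer (σ.D : Set G)

omit [Finite G] in
theorem mem_C_iff {x : G} : x ∈ σ.C ↔ Commute (σ.a ^ 2) x := by
  rw [C, D, Subgroup.zpowers_eq_closure, Subgroup.centralizer_closure, Subgroup.mem_centralizer_singleton_iff]
  exact eq_comm

omit [Finite G] in
theorem A_le_C : Subgroup.zpowers σ.a ≤ σ.C :=
  Subgroup.zpowers_le.2 (σ.mem_C_iff.2 (Commute.pow_self σ.a 2))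

omit [Finite G] in
theorem S_le_N : (σ.S : Subgroup G) ≤ σ.Nz := by
  intro x hx
  rw [Nz, Subgroup.mem_normalizer_iff]
  have key : ∀ y ∈ (σ.S : Subgroup G), ∀ d ∈ σ.D, y * d * y⁻¹ ∈ σ.D := by
    intro y hy d hd
    rw [show y * d * y⁻¹ = ⁅y, d⁆ * d by rw [commutatorElement_def]; group]
    refine mul_mem ?_ hd
    have := Subgroup.commutator_mem_commutator hy (σ.D_le_S hd)
    rwa [σ.D_eq_of_derived rfl] at this
  exact fun d => ⟨key x hx d, fun h => by simpa [mul_assoc] using key x⁻¹ (inv_mem hx) _ h⟩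

omit [Finite G] in
theorem C_le_N : σ.C ≤ σ.Nz := Subgroup.centralizer_le_normalizer _

theorem card_A : Nat.card (Subgroup.zpowers σ.a) = 2 ^ (σ.n + 3) := by rw [Nat.card_zpowers, σ.order_a]

/-- A 2-subgroup of `C` containing `a` equals `⟨a⟩`. -/
theorem eq_A_of_pgroup {P : Subgroup G} (hP : IsPGroup 2 P) (hPC : P ≤ σ.C)
    (hA : Subgroup.zpowers σ.a ≤ P) : P = Subgroup.zpowers σ.a := by
  obtain ⟨T, hT⟩ := hP.exists_le_sylow
  obtain ⟨g, hg⟩ := MulAction.exists_smul_eq G T σ.S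
  have hmem : ∀ x ∈ P, g * x * g⁻¹ ∈ (σ.S : Subgroup G) := fun x hx => hg ▸ ⟨x, hT hx, rfl⟩
  have haord : orderOf (g * σ.a * g⁻¹) = 2 ^ (σ.n + 3) :=
    σ.order_a ▸ MulEquiv.orderOf_eq (MulAut.conj g) σ.a
  have ha' : g * σ.a * g⁻¹ ∈ Subgroup.zpowers σ.a := by
    rcases σ.cases_S _ (hmem _ (hA (Subgroup.mem_zpowers _))) with ⟨i, hi⟩ | ⟨i, hi⟩
    · rw [hi]; exact pow_mem (Subgroup.mem_zpowers _) i
    · exfalso
      have h4 : (σ.b * σ.a ^ i) ^ 4 = 1 := by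
        rw [show 4 = 2 * 2 from rfl, pow_mul, σ.sq_bai, ← σ.orderOf_z, pow_orderOf_eq_one]
      rw [hi] at haord
      have hd := orderOf_dvd_of_pow_eq_one h4
      rw [haord] at hd
      have := Nat.le_of_dvd (by norm_num) hd
      have h8 : 2 ^ 3 ≤ 2 ^ (σ.n + 3) := Nat.pow_le_pow_right (by norm_num) (by omega)
      omega
  have heq : Subgroup.zpowers (g * σ.a * g⁻¹) = Subgroup.zpowers σ.a :=
    Subgroup.eq_of_le_of_card_ge (Subgroup.zpowers_le.2 ha') (by rw [Nat.card_zpowers, Nat.card_zpowers, haord, σ.order_a])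
  obtain ⟨k, hk⟩ := Subgroup.mem_zpowers_iff.1 (heq.symm ▸ Subgroup.mem_zpowers σ.a : σ.a ∈ Subgroup.zpowers (g * σ.a * g⁻¹))
  refine le_antisymm (fun x hx => ?_) hA
  have hcomm : Commute ((g * σ.a * g⁻¹) ^ 2) (g * x * g⁻¹) := by
    rw [conj_pow]
    exact (σ.mem_C_iff.1 (hPC hx)).map (MulAut.conj g)
  have hcomm' : Commute (σ.a ^ 2) (g * x * g⁻¹) := by
    rw [← hk, ← zpow_natCast, zpow_comm, zpow_natCast]
    exact hcomm.zpow_left k
  have hxA := σ.mem_A_of_commute (hmem x hx) hcomm'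
  rw [← heq] at hxA
  obtain ⟨j, hj⟩ := Subgroup.mem_zpowers_iff.1 hxA
  rw [conj_zpow] at hj
  exact ⟨j, mul_left_cancel (mul_right_cancel hj)⟩

theorem exists_sylowC : ∃ P : Sylow 2 σ.C, (P : Subgroup σ.C) = (Subgroup.zpowers σ.a).subgroupOf σ.C := by
  have hA : IsPGroup 2 (Subgroup.zpowers σ.a) := IsPGroup.of_card σ.card_A
  obtain ⟨P, hP⟩ := (hA.of_equiv (Subgroup.subgroupOfEquivOfLe σ.A_le_C).symm).exists_le_sylow
  refine ⟨P, ?_⟩
  have hle : Subgroup.zpowers σ.a ≤ (P : Subgroup σ.C).map σ.C.subtype := fun x hx =>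
    ⟨⟨x, σ.A_le_C hx⟩, hP hx, rfl⟩
  have := σ.eq_A_of_pgroup (P.2.map σ.C.subtype) (Subgroup.map_subtype_le _) hle
  rw [← this, Subgroup.subgroupOf, Subgroup.comap_map_eq_self_of_injective σ.C.subtype_injective]

theorem factorization_card_C : (Nat.card σ.C).factorization 2 = σ.n + 3 := by
  obtain ⟨P, hP⟩ := σ.exists_sylowC
  have h := P.card_eq_multiplicity
  rw [hP, Nat.card_congr (Subgroup.subgroupOfEquivOfLe σ.A_le_C).toEquiv, σ.card_A] at h
  exact (Nat.pow_right_injective le_rfl h).symm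

theorem factorization_card_N : (Nat.card σ.Nz).factorization 2 = σ.n + 4 := by
  apply le_antisymm
  · have h := σ.S.card_eq_multiplicity
    rw [σ.card_S] at h
    rw [Nat.pow_right_injective le_rfl h]
    exact (Nat.factorization_le_iff_dvd Nat.card_pos.ne' Nat.card_pos.ne').2 (Subgroup.card_subgroup_dvd_card _) 2
  · rw [← Nat.prime_two.pow_dvd_iff_le_factorization Nat.card_pos.ne', ← σ.card_S]
    exact Subgroup.card_dvd_of_le σ.S_le_N

theorem relIndex_two : (σ.C.subgroupOf σ.Nz).index = 2 := by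
  set i := (σ.C.subgroupOf σ.Nz).index with hi
  have key : i ∣ 2 ^ (σ.n + 1) := by
    haveI : IsCyclic σ.D := Subgroup.isCyclic_zpowers _
    let f := (σ.D.normalizerMonoidHom)
    have h := Subgroup.card_dvd_of_injective _ (QuotientGroup.kerLift_injective f)
    have hker : f.ker = σ.C.subgroupOf σ.Nz := Subgroup.normalizerMonoidHom_ker _
    rw [IsCyclic.card_mulAut σ.D, σ.card_D, Nat.totient_prime_pow Nat.prime_two (by omega),
      show σ.n + 2 - 1 = σ.n + 1 by omega, show (2 : ℕ) - 1 = 1 from rfl, mul_one, ← Subgroup.index_eq_card, hker] at h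
    exact h
  obtain ⟨j, _, hj⟩ := (Nat.dvd_prime_pow Nat.prime_two).1 key
  have h := Subgroup.card_mul_index (σ.C.subgroupOf σ.Nz)
  rw [Nat.card_congr (Subgroup.subgroupOfEquivOfLe σ.C_le_N).toEquiv, ← hi, hj] at h
  have h' := congrArg (fun m => m.factorization 2) h
  simp only [Nat.factorization_mul Nat.card_pos.ne' (pow_ne_zero j two_ne_zero), Finsupp.add_apply,
    σ.factorization_card_C, σ.factorization_card_N, Nat.prime_two.factorization_pow, Finsupp.single_eq_same] at h'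
  rw [hj, show j = 1 by omega, pow_one]

/-- The odd normal complement of `⟨a⟩` in `C`, with its characterisation. -/
theorem exists_K : ∃ K : Subgroup G, K ≤ σ.C ∧ Odd (Nat.card K) ∧
    (∀ x, x ∈ K ↔ x ∈ σ.C ∧ Odd (orderOf x)) ∧
    ∀ x ∈ σ.C, ∃ k ∈ K, ∃ i : ℕ, x = k * σ.a ^ i := by
  obtain ⟨P, hP⟩ := σ.exists_sylowC
  have h2 : 2 ∣ Nat.card σ.C := by
    refine Dvd.dvd.trans ?_ (Subgroup.card_dvd_of_le σ.A_le_C)
    rw [σ.card_A]; exact dvd_pow_self 2 (by omega)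
  have hmin : (Nat.card σ.C).minFac = 2 := Nat.minFac_eq_two_iff _ |>.2 h2
  haveI hcyc : IsCyclic P := by
    change IsCyclic (P : Subgroup σ.C)
    rw [hP]
    exact isCyclic_of_surjective (Subgroup.subgroupOfEquivOfLe σ.A_le_C).symm (MulEquiv.surjective _)
  have hcomp := IsCyclic.isComplement' hmin hcyc
  set K' := (MonoidHom.transferSylow P (hcyc.normalizer_le_centralizer hmin)).ker with hK'
  have hodd : Odd (Nat.card K') := by
    rw [← hcomp.index_eq_card, Nat.odd_iff, ← Nat.two_dvd_ne_zero]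
    exact P.not_dvd_index
  refine ⟨K'.map σ.C.subtype, Subgroup.map_subtype_le _, ?_, fun x => ⟨?_, ?_⟩, ?_⟩
  · rwa [← Nat.card_congr (K'.equivMapOfInjective _ σ.C.subtype_injective).toEquiv]
  · rintro ⟨y, hy, rfl⟩
    refine ⟨y.2, ?_⟩
    rw [Subgroup.coe_subtype, Subgroup.orderOf_coe]
    exact Odd.of_dvd_nat hodd (Subgroup.orderOf_dvd_natCard K' hy)
  · rintro ⟨hx, ho⟩
    refine ⟨⟨x, hx⟩, ?_, rfl⟩
    change (⟨x, hx⟩ : σ.C) ∈ K'
    rw [hK', MonoidHom.mem_ker, ← orderOf_eq_one_iff]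
    have d1 : orderOf (MonoidHom.transferSylow P (hcyc.normalizer_le_centralizer hmin) ⟨x, hx⟩) ∣ orderOf x := by
      rw [← Subgroup.orderOf_mk x hx]; exact orderOf_map_dvd _ _
    obtain ⟨k, hk⟩ := P.2.exists_card_eq
    refine Nat.eq_one_of_dvd_coprimes ?_ d1 (hk ▸ orderOf_dvd_natCard _)
    exact (Nat.coprime_two_right.2 ho).pow_right k
  · intro x hx
    obtain ⟨⟨⟨k, hk⟩, ⟨y, hy⟩⟩, he, -⟩ := hcomp.existsUnique (⟨x, hx⟩ : σ.C)
    rw [SetLike.mem_coe, hP, Subgroup.mem_subgroupOf, ← mem_powers_iff_mem_zpowers] at hy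
    obtain ⟨i, hi⟩ := hy
    exact ⟨(k : G), ⟨k, hk, rfl⟩, i, by rw [show σ.a ^ i = (y : G) from hi]; exact (congrArg Subtype.val he).symm⟩

omit [Finite G] in
theorem card_D_pos : 0 < 2 ^ (σ.n + 2) := Nat.two_pow_pos _

/-- An element of `C` whose order is divisible by `|D|` generates a group containing `D`. -/
theorem D_le_zpowers {y : G} (hy : y ∈ σ.C) (hd : Nat.card σ.D ∣ orderOf y) : σ.D ≤ Subgroup.zpowers y := by
  obtain ⟨k, hk⟩ := hd
  set w := y ^ k with hw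
  have hwo : orderOf w = 2 ^ (σ.n + 2) := by
    have hk0 : k ≠ 0 := by
      rintro rfl
      exact (orderOf_pos y).ne' (by rw [hk, mul_zero])
    rw [hw, orderOf_pow_of_dvd hk0 (hk ▸ dvd_mul_left _ _), hk, Nat.mul_div_cancel _ (Nat.pos_of_ne_zero hk0),
      σ.card_D]
  have hwC : w ∈ σ.C := pow_mem hy k
  have hP : IsPGroup 2 (Subgroup.zpowers (⟨w, hwC⟩ : σ.C)) :=
    IsPGroup.of_card (n := σ.n + 2) (by rw [Nat.card_zpowers, Subgroup.orderOf_mk, hwo])
  obtain ⟨T, hT⟩ := hP.exists_le_sylow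
  obtain ⟨P, hP'⟩ := σ.exists_sylowC
  obtain ⟨c, hc⟩ := MulAction.exists_smul_eq σ.C T P
  have hmem : (c : G) * w * (c : G)⁻¹ ∈ Subgroup.zpowers σ.a := by
    have : c * ⟨w, hwC⟩ * c⁻¹ ∈ (P : Subgroup σ.C) := hc ▸ ⟨_, hT (Subgroup.mem_zpowers _), rfl⟩
    rw [hP'] at this
    exact this
  obtain ⟨i, hi⟩ := mem_powers_iff_mem_zpowers.2 hmem
  change σ.a ^ i = _ at hi
  have hpow : ((c : G) * w * (c : G)⁻¹) ^ (2 ^ (σ.n + 2)) = 1 := by
    rw [conj_pow, ← hwo, pow_orderOf_eq_one]; group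
  rw [← hi, ← pow_mul, ← orderOf_dvd_iff_pow_eq_one, σ.order_a,
    show 2 ^ (σ.n + 3) = 2 * 2 ^ (σ.n + 2) by ring] at hpow
  obtain ⟨j, rfl⟩ := (Nat.mul_dvd_mul_iff_right σ.card_D_pos).1 hpow
  have hcd : Subgroup.zpowers ((c : G) * w * (c : G)⁻¹) = σ.D := by
    refine Subgroup.eq_of_le_of_card_ge (Subgroup.zpowers_le.2 ?_) ?_
    · rw [← hi, pow_mul]; exact pow_mem (Subgroup.mem_zpowers _) j
    · rw [σ.card_D, Nat.card_zpowers, ← hwo]
      exact (MulEquiv.orderOf_eq (MulAut.conj (c : G)) w).ge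
  intro d hd
  have hdw : d ∈ Subgroup.zpowers ((c : G) * w * (c : G)⁻¹) := hcd ▸ hd
  obtain ⟨l, hl⟩ := Subgroup.mem_zpowers_iff.1 hdw
  have hcd' : (c : G) * d * (c : G)⁻¹ = d := by
    have := (Subgroup.mem_centralizer_iff.1 c.2) d hd
    rw [← this, mul_inv_cancel_right]
  rw [conj_zpow] at hl
  rw [← hcd'] at hl
  rw [← mul_left_cancel (mul_right_cancel hl), hw]
  exact zpow_mem (pow_mem (Subgroup.mem_zpowers y) k) l

theorem mem_normalizer_of_conj {g y : G} (hy : y ∈ σ.C) (hd : Nat.card σ.D ∣ orderOf y)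
    (hgy : g * y * g⁻¹ ∈ σ.C) : g ∈ σ.Nz := by
  have h1 := σ.D_le_zpowers hy hd
  have h2 := σ.D_le_zpowers hgy (hd.trans (dvd_of_eq (MulEquiv.orderOf_eq (MulAut.conj g) y).symm))
  rw [Nz, Subgroup.mem_normalizer_iff_map_conj_eq]
  haveI : IsCyclic (Subgroup.zpowers (g * y * g⁻¹)) := Subgroup.isCyclic_zpowers _
  have hle : σ.D.map (MulAut.conj g : G →* G) ≤ Subgroup.zpowers (g * y * g⁻¹) := by
    rintro _ ⟨d, hd, rfl⟩
    obtain ⟨l, rfl⟩ := Subgroup.mem_zpowers_iff.1 (h1 hd)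
    exact ⟨l, (map_zpow (MulAut.conj g) y l).symm⟩
  refine Subgroup.eq_of_le_of_card_ge ?_
    (Nat.card_congr (σ.D.equivMapOfInjective _ (MulAut.conj g).injective).toEquiv).le
  intro x hx
  classical
  haveI := Fintype.ofFinite G
  -- subgroups of equal order in a cyclic group coincide
  have key := IsCyclic.card_pow_eq_one_le (α := Subgroup.zpowers (g * y * g⁻¹)) (n := Nat.card σ.D) Nat.card_pos
  let F : Finset (Subgroup.zpowers (g * y * g⁻¹)) := Finset.univ.filter (fun u => u ^ Nat.card σ.D = 1)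
  let F' : Finset (Subgroup.zpowers (g * y * g⁻¹)) := Finset.univ.filter (fun u => (u : G) ∈ σ.D)
  have hFF : F'.card = Nat.card σ.D := by
    rw [Nat.card_eq_fintype_card, ← Finset.card_univ]
    exact Finset.card_bij (fun u hu => ⟨(u : G), (Finset.mem_filter.1 hu).2⟩) (fun _ _ => Finset.mem_univ _)
      (fun _ _ _ _ h => Subtype.ext (congrArg (fun w : σ.D => (w : G)) h))
      (fun d _ => ⟨⟨d, h2 d.2⟩, by simp [F'], rfl⟩)
  have hsub : F' ⊆ F := fun u hu => by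
    simp only [F', F, Finset.mem_filter, Finset.mem_univ, true_and] at hu ⊢
    exact Subtype.ext (congrArg Subtype.val (pow_card_eq_one' (x := (⟨(u : G), hu⟩ : σ.D))) :)
  have heq : F' = F := Finset.eq_of_subset_of_card_le hsub (hFF ▸ key)
  obtain ⟨d, hdD, rfl⟩ := hx
  have : (⟨MulAut.conj g d, hle ⟨d, hdD, rfl⟩⟩ : Subgroup.zpowers (g * y * g⁻¹)) ∈ F' := by
    rw [heq]
    simp only [F, Finset.mem_filter, Finset.mem_univ, true_and]
    refine Subtype.ext ?_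
    rw [Subgroup.coe_pow]
    change (MulAut.conj g d) ^ _ = 1
    rw [← map_pow, show d ^ Nat.card σ.D = 1 from congrArg Subtype.val (pow_card_eq_one' (x := (⟨d, hdD⟩ : σ.D))),
      map_one]
  exact (Finset.mem_filter.1 this).2

theorem conj_mem_C {g : G} (hg : g ∈ σ.Nz) {y : G} (hy : y ∈ σ.C) : g * y * g⁻¹ ∈ σ.C := by
  refine Subgroup.mem_centralizer_iff.2 fun d hd => ?_
  have hd' : g⁻¹ * d * g ∈ σ.D := by
    have := (Subgroup.mem_normalizer_iff.1 (inv_mem hg) d).1 hd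
    rwa [inv_inv] at this
  have := (Subgroup.mem_centralizer_iff.1 hy) _ hd'
  calc d * (g * y * g⁻¹) = g * ((g⁻¹ * d * g) * y) * g⁻¹ := by group
    _ = g * (y * (g⁻¹ * d * g)) * g⁻¹ := by rw [this]
    _ = g * y * g⁻¹ * d := by group

end Setup

end Cfsg.Agent.BS16
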