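/-
Brauer–Suzuki for quaternion Sylow 2-subgroups of order at least 16, part 2: characters.
Main results: `Setup.exists_pair` (the exceptional pair), `Setup.exists_normal` (a normal subgroup
containing the involutions, with cyclic Sylow 2 and nonabelian quotient).
-/
import Cfsg.Agent.Lib.BS16.Basic
import Cfsg.Agent.Lib.Coherence.Virtual
import Cfsg.Agent.Lib.Codegree.Basic
import Cfsg.Agent.Lib.Char.Virtual

set_option autoImplicit false

namespace Cfsg.Agent.BS16

open Cfsg Cfsg.Agent.Char Cfsg.Agent.Coherence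
open scoped ComplexConjugate commutatorElement

theorem norm_two_cases {G : Type*} [Group G] [Fintype G] {θ : G → ℂ} (h : IsGeneralizedCharacter G θ)
    (h2 : classInner θ θ = 2) :
    ∃ (χ η : G → ℂ) (s t : ℤ), IsIrrCharacter G χ ∧ IsIrrCharacter G η ∧ χ ≠ η ∧
      (s = 1 ∨ s = -1) ∧ (t = 1 ∨ t = -1) ∧ θ = (s : ℂ) • χ + (t : ℂ) • η := by
  classical
  have : Fintype (IrrCharacter G) := Fintype.ofFinite _
  obtain ⟨c, hexp, -, hn⟩ := gc_eq_sum h
  have hsum : ∑ χ : IrrCharacter G, c χ ^ 2 = 2 := by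
    have := hn.symm.trans h2; exact_mod_cast this
  let T : Finset (IrrCharacter G) := Finset.univ.filter fun χ => c χ ≠ 0
  have hpos : ∀ χ ∈ T, 1 ≤ c χ ^ 2 := fun χ hχ => by
    have := (Finset.mem_filter.1 hχ).2
    have : 0 < c χ ^ 2 := by positivity
    omega
  have hT : ∑ χ ∈ T, c χ ^ 2 = 2 := by
    rw [← hsum]
    refine Finset.sum_subset (Finset.subset_univ _) fun χ _ hχ => ?_
    simp only [T, Finset.mem_filter, Finset.mem_univ, true_and, not_not] at hχ
    simp [hχ]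
  have hle : (T.card : ℤ) ≤ 2 := by
    rw [← hT]; simpa using Finset.card_nsmul_le_sum T _ 1 hpos
  have hcard : T.card = 2 := by
    rcases Nat.lt_or_ge T.card 2 with hlt | hge
    · exfalso
      rcases (show T.card = 0 ∨ T.card = 1 by omega) with h0 | h1
      · simp [Finset.card_eq_zero.1 h0] at hT
      · obtain ⟨χ, hχ⟩ := Finset.card_eq_one.1 h1
        rw [hχ, Finset.sum_singleton] at hT
        have h1 : -2 < c χ := by nlinarith
        have h2 : c χ < 2 := by nlinarith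
        interval_cases (c χ) <;> simp_all
    · omega
  obtain ⟨χ, η, hne, hTe⟩ := Finset.card_eq_two.1 hcard
  have hχ := hpos χ (by simp [hTe])
  have hη := hpos η (by simp [hTe])
  rw [hTe, Finset.sum_pair hne] at hT
  refine ⟨χ, η, c χ, c η, χ.2, η.2, fun e => hne (Subtype.ext e), sq_eq_one_iff.1 (by omega),
    sq_eq_one_iff.1 (by omega), ?_⟩
  rw [hexp, ← Finset.sum_subset (Finset.subset_univ T) (fun ψ _ hψ => by
    simp only [T, Finset.mem_filter, Finset.mem_univ, true_and, not_not] at hψ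
    simp [hψ]), hTe, Finset.sum_pair hne]

theorem sum_pairs {G : Type*} [Group G] [Fintype G] {χ : G → ℂ} (hχ : IsIrrCharacter G χ) (x : G) :
    ∑ b : G, ∑ b' : G, χ (b * x * b⁻¹ * (b' * x * b'⁻¹)) = (Nat.card G : ℂ) ^ 2 * χ x ^ 2 / χ 1 := by
  obtain ⟨n, ρ, hρ, rfl⟩ := hχ
  haveI := hρ
  rw [Finset.sum_comm]
  rw [Finset.sum_congr rfl fun b' _ => CharApp.sum_char_conj_mul (ρ := ρ) x (b' * x * b'⁻¹)]
  rw [Finset.sum_congr rfl fun b' _ => by rw [Representation.char_conj]]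
  rw [Finset.sum_const, Finset.card_univ, nsmul_eq_mul, Representation.char_one, ← Nat.card_eq_fintype_card]
  ring

namespace Setup

variable {G : Type*} [Group G] (σ : Setup G)

theorem z_commute_b : Commute σ.z σ.b := by
  change Commute (σ.a ^ 2 ^ (σ.n + 2)) σ.b
  rw [← σ.b_sq]
  exact Commute.pow_self σ.b 2

theorem z_commute_S {x : G} (hx : x ∈ (σ.S : Subgroup G)) : Commute σ.z x := by
  have ha : Commute σ.z σ.a := Commute.pow_self σ.a _
  rcases σ.cases_S x hx with ⟨i, rfl⟩ | ⟨i, rfl⟩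
  · exact ha.pow_right i
  · exact σ.z_commute_b.mul_right (ha.pow_right i)

theorem b_not_mem_C : σ.b ∉ σ.C := fun h => σ.not_commute_D (i := 0) (by
  rw [pow_zero, mul_one]; exact σ.mem_C_iff.1 h)

variable [Finite G]

include σ in
/-- An element inverted by an involution has order not divisible by four. -/
theorem not_four_dvd {x y : G} (hx : orderOf x = 2) (hy : orderOf y = 2) : ¬ 4 ∣ orderOf (x * y) := by
  intro hd
  have hxx : x * x = 1 := by rw [← pow_two, ← hx, pow_orderOf_eq_one]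
  have hyy : y * y = 1 := by rw [← pow_two, ← hy, pow_orderOf_eq_one]
  obtain ⟨k, hk⟩ := hd
  have hk0 : k ≠ 0 := by rintro rfl; exact (orderOf_pos (x * y)).ne' (by rw [hk])
  set u := (x * y) ^ k with hu
  have huo : orderOf u = 4 := by
    rw [hu, orderOf_pow_of_dvd hk0 (hk ▸ dvd_mul_left _ _), hk, Nat.mul_div_cancel _ (Nat.pos_of_ne_zero hk0)]
  have hinv : x * (x * y) * x⁻¹ = (x * y)⁻¹ := by
    rw [mul_inv_rev, inv_eq_of_mul_eq_one_left hxx, inv_eq_of_mul_eq_one_left hyy, ← mul_assoc, hxx, one_mul]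
  have hxu : x * u * x⁻¹ = u⁻¹ := by rw [hu, ← conj_pow, hinv, inv_pow]
  have hnorm : Subgroup.zpowers x ≤ Subgroup.normalizer (Subgroup.zpowers u : Set G) := by
    rw [Subgroup.zpowers_le, Subgroup.mem_normalizer_iff_map_conj_eq]
    rw [MonoidHom.map_zpowers]
    change Subgroup.zpowers (x * u * x⁻¹) = _
    rw [hxu, Subgroup.zpowers_inv]
  have hP : IsPGroup 2 (Subgroup.zpowers x ⊔ Subgroup.zpowers u : Subgroup G) :=
    IsPGroup.to_sup_of_normal_right' (IsPGroup.of_card (n := 1) (by rw [Nat.card_zpowers, hx, pow_one]))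
      (IsPGroup.of_card (n := 2) (by rw [Nat.card_zpowers, huo]; norm_num)) hnorm
  obtain ⟨T, hT⟩ := hP.exists_le_sylow
  obtain ⟨g, hg⟩ := MulAction.exists_smul_eq G T σ.S
  have hx' : g * x * g⁻¹ ∈ (σ.S : Subgroup G) := by
    rw [← hg]; exact ⟨x, hT (Subgroup.mem_sup_left (Subgroup.mem_zpowers x)), rfl⟩
  have hu' : g * u * g⁻¹ ∈ (σ.S : Subgroup G) := by
    rw [← hg]; exact ⟨u, hT (Subgroup.mem_sup_right (Subgroup.mem_zpowers u)), rfl⟩
  have hxz : g * x * g⁻¹ = σ.z := σ.eq_z hx' (hx ▸ MulEquiv.orderOf_eq (MulAut.conj g) x)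
  have hc : Commute (g * x * g⁻¹) (g * u * g⁻¹) := hxz ▸ σ.z_commute_S hu'
  have hc' : x * u = u * x := by
    apply (MulAut.conj g).injective
    rw [map_mul, map_mul]
    exact hc.eq
  rw [hc', mul_inv_cancel_right] at hxu
  have hd2 : orderOf u ∣ 2 := orderOf_dvd_of_pow_eq_one (by
    rw [pow_two]; nth_rw 2 [hxu]; exact mul_inv_cancel u)
  rw [huo] at hd2
  norm_num at hd2

/-- A linear character of `C` sending `a` to `i`. -/
theorem exists_lam : ∃ l : σ.C →* ℂ, l ⟨σ.a, σ.A_le_C (Subgroup.mem_zpowers _)⟩ = Complex.I ∧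
    (∀ (x : σ.C), l x ≠ 1 → Nat.card σ.D ∣ orderOf (x : G)) ∧
    ∀ (x : σ.C) (g : G), g * (x : G) * g⁻¹ ∈ σ.C → g ∈ σ.Nz → g ∉ σ.C →
      ∀ hx : g * (x : G) * g⁻¹ ∈ σ.C, l ⟨_, hx⟩ = (l x)⁻¹ := by
  classical
  obtain ⟨K, hKC, hKodd, hKmem, hKdec⟩ := σ.exists_K
  have hKconj : ∀ g : G, g ∈ σ.Nz → ∀ x ∈ K, g * x * g⁻¹ ∈ K := fun g hg x hx => by
    rw [hKmem] at hx ⊢
    exact ⟨σ.conj_mem_C hg hx.1, by
      rw [show orderOf (g * x * g⁻¹) = orderOf x from MulEquiv.orderOf_eq (MulAut.conj g) x]; exact hx.2⟩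
  haveI hn : (K.subgroupOf σ.C).Normal := ⟨fun x hx g => hKconj g (σ.C_le_N g.2) x hx⟩
  let aC : σ.C := ⟨σ.a, σ.A_le_C (Subgroup.mem_zpowers _)⟩
  let π := QuotientGroup.mk' (K.subgroupOf σ.C)
  have hgen : ∀ q : σ.C ⧸ K.subgroupOf σ.C, q ∈ Subgroup.zpowers (π aC) := by
    intro q
    obtain ⟨x, rfl⟩ := QuotientGroup.mk'_surjective _ q
    obtain ⟨k, hk, i, hi⟩ := hKdec x x.2
    refine ⟨(i : ℤ), ?_⟩
    change π aC ^ (i : ℤ) = π x
    rw [zpow_natCast, ← map_pow, show x = ⟨k, hKC hk⟩ * aC ^ i from Subtype.ext (by simpa [aC] using hi),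
      map_mul, show π ⟨k, hKC hk⟩ = 1 from (QuotientGroup.eq_one_iff _).2 hk, one_mul]
  have hord : orderOf (π aC) = 2 ^ (σ.n + 3) := by
    refine Nat.dvd_antisymm ?_ ?_
    · rw [← σ.order_a, ← Subgroup.orderOf_mk σ.a (σ.A_le_C (Subgroup.mem_zpowers _))]
      exact orderOf_map_dvd π aC
    · rw [← σ.order_a]
      refine orderOf_dvd_of_pow_eq_one ?_
      have h1 : π (aC ^ orderOf (π aC)) = 1 := by rw [map_pow, pow_orderOf_eq_one]
      have h2 : σ.a ^ orderOf (π aC) ∈ K := by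
        have := (QuotientGroup.eq_one_iff (aC ^ orderOf (π aC))).1 h1
        simpa [Subgroup.mem_subgroupOf, aC] using this
      rw [← orderOf_eq_one_iff]
      exact Nat.eq_one_of_dvd_coprimes (Nat.Coprime.pow_left (σ.n + 3) (Nat.coprime_two_left.2 hKodd))
        (σ.order_a ▸ orderOf_pow_dvd _) (Subgroup.orderOf_dvd_natCard K h2)
  let I' : ℂˣ := Units.mk0 Complex.I Complex.I_ne_zero
  have hI : orderOf I' ∣ orderOf (π aC) := by
    rw [hord]
    refine dvd_trans (orderOf_dvd_of_pow_eq_one (n := 4) ?_) (by rw [show 4 = 2 ^ 2 from rfl]; exact pow_dvd_pow 2 (by omega))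
    exact Units.ext (by simp [I'])
  let m := monoidHomOfForallMemZpowers hgen hI
  let l : σ.C →* ℂ := (Units.coeHom ℂ).comp (m.comp π)
  have hla : l aC = Complex.I := by
    simp only [l, MonoidHom.comp_apply, m, monoidHomOfForallMemZpowers_apply_gen]
    rfl
  refine ⟨l, hla, ?_, ?_⟩
  · intro x hx
    obtain ⟨k, hk, i, hi⟩ := hKdec x x.2
    have hx' : π x = π aC ^ i := by
      rw [show x = ⟨k, hKC hk⟩ * aC ^ i from Subtype.ext (by simpa [aC] using hi), map_mul,
        show π ⟨k, hKC hk⟩ = 1 from (QuotientGroup.eq_one_iff _).2 hk, one_mul, map_pow]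
    have hlx : l x = Complex.I ^ i := by
      rw [← hla]
      change ((m (π x) : ℂˣ) : ℂ) = ((m (π aC) : ℂˣ) : ℂ) ^ i
      rw [hx', map_pow, Units.val_pow_eq_pow_val]
    have h4 : ¬ 4 ∣ i := fun ⟨j, hj⟩ => hx (by rw [hlx, hj, pow_mul, Complex.I_pow_four, one_pow])
    have hdiv : 2 ^ (σ.n + 3) ∣ i * orderOf (x : G) := by
      rw [← hord]
      refine orderOf_dvd_of_pow_eq_one ?_
      rw [pow_mul, ← hx', ← map_pow, Subgroup.orderOf_coe, pow_orderOf_eq_one, map_one]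
    rw [σ.card_D]
    rcases Nat.even_or_odd i with ⟨j, rfl⟩ | ho
    · have hj : Odd j := Nat.not_even_iff_odd.1 fun ⟨t, ht⟩ => h4 ⟨t, by omega⟩
      refine ((Nat.coprime_two_left.2 hj).pow_left _).dvd_of_dvd_mul_left ?_
      rw [show (j + j) * orderOf (x : G) = j * orderOf (x : G) * 2 by ring,
        show 2 ^ (σ.n + 3) = 2 ^ (σ.n + 2) * 2 by ring] at hdiv
      exact (Nat.mul_dvd_mul_iff_right two_pos).1 hdiv
    · refine ((Nat.coprime_two_left.2 ho).pow_left _).dvd_of_dvd_mul_left ?_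
      exact (pow_dvd_pow 2 (by omega)).trans hdiv
  · intro x g _ hgN hgC hx
    have hidx := σ.relIndex_two
    have hbN : σ.b ∈ σ.Nz := σ.S_le_N σ.hb
    have hgb : σ.b⁻¹ * g ∈ σ.C := by
      have hb' : (⟨σ.b, hbN⟩ : σ.Nz)⁻¹ ∉ σ.C.subgroupOf σ.Nz := fun h => σ.b_not_mem_C ((inv_mem_iff).1 h)
      exact (Subgroup.mul_mem_iff_of_index_two hidx (a := (⟨σ.b, hbN⟩ : σ.Nz)⁻¹) (b := ⟨g, hgN⟩)).2
        (iff_of_false hb' hgC)
    set c : σ.C := ⟨σ.b⁻¹ * g, hgb⟩
    obtain ⟨k, hk, i, hi⟩ := hKdec _ (c * x * c⁻¹).2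
    have hbk : σ.b * k * σ.b⁻¹ ∈ K := hKconj _ hbN k hk
    have e1 : c * x * c⁻¹ = ⟨k, hKC hk⟩ * aC ^ i := Subtype.ext (by simpa [aC] using hi)
    have e2 : (⟨g * (x : G) * g⁻¹, hx⟩ : σ.C) = ⟨_, hKC hbk⟩ * (aC ^ i)⁻¹ := by
      apply Subtype.ext
      have hg : g * (x : G) * g⁻¹ = σ.b * ((c * x * c⁻¹ : σ.C) : G) * σ.b⁻¹ := by simp [c, mul_assoc]
      have hb : σ.b * σ.a ^ i * σ.b⁻¹ = (σ.a ^ i)⁻¹ := by rw [← conj_pow, σ.conj_a, inv_pow]
      change g * (x : G) * g⁻¹ = σ.b * k * σ.b⁻¹ * (σ.a ^ i)⁻¹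
      rw [hg, hi, ← hb]; group
    have hl1 : ∀ k' (hk' : k' ∈ K), l ⟨k', hKC hk'⟩ = 1 := fun k' hk' => by
      simp only [l, MonoidHom.comp_apply, show π ⟨k', hKC hk'⟩ = 1 from (QuotientGroup.eq_one_iff _).2 hk', map_one]
    have hinv : ∀ u : σ.C, l u⁻¹ = (l u)⁻¹ := fun u => eq_inv_of_mul_eq_one_left (by rw [← map_mul, inv_mul_cancel, map_one])
    have hlc : l x = l (c * x * c⁻¹) := by
      rw [map_mul, map_mul, hinv, mul_comm (l c), mul_assoc, mul_inv_cancel₀, mul_one]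
      intro h0
      have := congrArg l (mul_inv_cancel c)
      rw [map_mul, h0, zero_mul, map_one] at this
      exact zero_ne_one this
    rw [e2, hlc, e1, map_mul, map_mul, hl1 _ hbk, hl1 _ hk, hinv, one_mul, one_mul]

/-- The exceptional pair of characters. -/
theorem exists_pair [Fintype G] : ∃ χ₁ χ₂ : G → ℂ, IsIrrCharacter G χ₁ ∧ IsIrrCharacter G χ₂ ∧
    χ₁ ≠ (fun _ => 1) ∧ χ₂ ≠ (fun _ => 1) ∧ χ₁ 1 = χ₂ 1 + 1 ∧
    (∀ g : G, ¬ 4 ∣ orderOf g → χ₁ g - χ₂ g = 1) ∧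
    χ₁ σ.z = χ₁ 1 ∧ χ₁ (σ.a ^ 2) ≠ χ₁ 1 := by
  classical
  haveI := Fintype.ofFinite σ.C
  obtain ⟨l, hla, hlW, hlinv⟩ := σ.exists_lam
  have hl0 : ∀ u, l u ≠ 0 := fun u h0 => by
    have := congrArg l (mul_inv_cancel u)
    rw [map_mul, h0, zero_mul, map_one] at this
    exact zero_ne_one this
  let l' : σ.C →* ℂ :=
    { toFun := fun u => (l u)⁻¹
      map_one' := by simp
      map_mul' := fun u v => by simp [mul_comm] }
  set θ : σ.C → ℂ := (fun _ => 1) - ⇑l with hθ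
  have hθv : ∀ x, θ x = 1 - l x := fun x => rfl
  let Φ := Cfsg.indFun σ.C θ
  have h4D : 4 ∣ Nat.card σ.D := by
    rw [σ.card_D, show 4 = 2 ^ 2 from rfl]; exact pow_dvd_pow 2 (by omega)
  have hθW : ∀ x : σ.C, θ x ≠ 0 → Nat.card σ.D ∣ orderOf (x : G) := fun x hx =>
    hlW x fun e => hx (by rw [hθv, e, sub_self])
  have hzero : ∀ g : G, ¬ 4 ∣ orderOf g → Φ g = 0 := by
    intro g hg
    change _ * _ = (0 : ℂ)
    rw [Finset.sum_eq_zero, mul_zero]
    intro x _
    by_contra hne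
    rw [extendByZero_eq] at hne
    split_ifs at hne with hmem
    · apply hg
      have h1 := h4D.trans (hθW _ hne)
      rwa [show orderOf (x⁻¹ * g * x) = orderOf g by
        have := MulEquiv.orderOf_eq (MulAut.conj x⁻¹) g
        simpa using this] at h1
    · exact hne rfl
  have hval : ∀ w : σ.C, Nat.card σ.D ∣ orderOf (w : G) → Φ (w : G) = 2 - l w - (l w)⁻¹ := by
    intro w hw
    have hterm : ∀ x : G, extendByZero σ.C θ (x⁻¹ * (w : G) * x) =
        if x ∈ σ.C then 1 - l w else if x ∈ σ.Nz then 1 - (l w)⁻¹ else 0 := by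
      intro x
      split_ifs with hC hN
      · have e : x⁻¹ * (w : G) * x = ((⟨x, hC⟩⁻¹ * w * ⟨x, hC⟩ : σ.C) : G) := rfl
        rw [e, extendByZero_coe, hθv, map_mul, map_mul, mul_comm (l _) (l w), mul_assoc, ← map_mul,
          inv_mul_cancel, map_one, mul_one]
      · have hmem : x⁻¹ * (w : G) * x ∈ σ.C := by simpa using σ.conj_mem_C (inv_mem hN) w.2
        rw [extendByZero_mem _ _ hmem, hθv]
        have := hlinv w x⁻¹ (by simpa using hmem) (inv_mem hN) (fun h => hC (inv_mem_iff.1 h)) (by simpa using hmem)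
        simp only [inv_inv] at this
        rw [this]
      · by_contra hne
        rw [extendByZero_eq] at hne
        split_ifs at hne with hmem
        · exact hN (inv_mem_iff.1 (σ.mem_normalizer_of_conj w.2 hw (g := x⁻¹) (by simpa using hmem)))
        · exact hne rfl
    change _ * _ = _
    rw [Finset.sum_congr rfl fun x _ => hterm x, Finset.sum_ite, Finset.sum_const, nsmul_eq_mul,
      Finset.sum_ite, Finset.sum_const, Finset.sum_const_zero, add_zero, nsmul_eq_mul, Finset.filter_filter]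
    have c1 : (Finset.univ.filter (fun x => x ∈ σ.C)).card = Nat.card σ.C := by
      rw [Nat.card_eq_fintype_card, ← Fintype.card_subtype]
    have c2 : (Finset.univ.filter (fun x => ¬ x ∈ σ.C ∧ x ∈ σ.Nz)).card = Nat.card σ.C := by
      have h := Subgroup.card_mul_index (σ.C.subgroupOf σ.Nz)
      rw [σ.relIndex_two, Nat.card_congr (Subgroup.subgroupOfEquivOfLe σ.C_le_N).toEquiv] at h
      have e : Finset.univ.filter (fun x => ¬ x ∈ σ.C ∧ x ∈ σ.Nz) =
          Finset.univ.filter (fun x => x ∈ σ.Nz) \ Finset.univ.filter (fun x => x ∈ σ.C) := by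
        ext x; simp [and_comm]
      rw [e, Finset.card_sdiff_of_subset (fun x hx => by
        simp only [Finset.mem_filter, Finset.mem_univ, true_and] at hx ⊢; exact σ.C_le_N hx), c1,
        ← Fintype.card_subtype, ← Nat.card_eq_fintype_card]
      omega
    rw [c1, c2, ← mul_add, ← mul_assoc, inv_mul_cancel₀ (Nat.cast_ne_zero.2 Nat.card_pos.ne'), one_mul]
    ring
  have hlirr : IsIrrCharacter σ.C l := isIrrCharacter_of_hom l
  have hl'irr : IsIrrCharacter σ.C l' := isIrrCharacter_of_hom l'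
  have h1irr : IsIrrCharacter σ.C (fun _ => (1 : ℂ)) := isIrrCharacter_one
  have hne : (fun _ => (1 : ℂ)) ≠ ⇑l ∧ (fun _ => (1 : ℂ)) ≠ ⇑l' ∧ ⇑l ≠ ⇑l' := by
    refine ⟨fun h => ?_, fun h => ?_, fun h => ?_⟩
    · have := (congrFun h ⟨σ.a, σ.A_le_C (Subgroup.mem_zpowers _)⟩).trans hla
      exact absurd (congrArg Complex.im this) (by simp)
    · have := congrFun h ⟨σ.a, σ.A_le_C (Subgroup.mem_zpowers _)⟩
      change (1 : ℂ) = (l _)⁻¹ at this
      rw [hla] at this
      exact absurd (congrArg Complex.im this) (by simp)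
    · have := congrFun h ⟨σ.a, σ.A_le_C (Subgroup.mem_zpowers _)⟩
      change l _ = (l _)⁻¹ at this
      rw [hla] at this
      have := congrArg Complex.im this
      norm_num at this
  have hΦcl : IsClassFunction G Φ := indFun_isClassFunction σ.C θ
  have hθgc : IsGeneralizedCharacter σ.C θ := isGC_sub (isGC_of_irr h1irr) (isGC_of_irr hlirr)
  have hΦgc : IsGeneralizedCharacter G Φ := Char.IsGeneralizedCharacter.indFun hθgc
  have hi1 : classInner Φ (fun _ => (1 : ℂ)) = 1 := by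
    rw [frobenius_reciprocity σ.C θ (fun _ _ => rfl), hθ, classInner_sub_left, classInner_irr_self h1irr,
      classInner_irr_of_ne hlirr h1irr hne.1.symm, sub_zero]
  have hi1' : classInner (fun _ => (1 : ℂ)) Φ = 1 := by rw [← classInner_conj_symm, hi1, map_one]
  have hi3 : classInner Φ Φ = 3 := by
    rw [frobenius_reciprocity σ.C θ hΦcl]
    have e : classInner θ (fun x : σ.C => Φ x) =
        classInner θ (((fun _ => (1 : ℂ)) - ⇑l) + ((fun _ => (1 : ℂ)) - ⇑l')) := by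
      unfold classInner
      congr 1
      refine Finset.sum_congr rfl fun x _ => ?_
      by_cases hx : θ x = 0
      · simp [hx]
      · congr 2
        rw [hval x (hθW x hx)]
        change 2 - l x - (l x)⁻¹ = (1 - l x) + (1 - (l x)⁻¹)
        ring
    rw [e, hθ, classInner_add_right, classInner_sub_left, classInner_sub_left, classInner_sub_right,
      classInner_sub_right, classInner_sub_right, classInner_sub_right,
      classInner_irr_self h1irr, classInner_irr_self hlirr, classInner_irr_of_ne h1irr hlirr hne.1,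
      classInner_irr_of_ne hlirr h1irr hne.1.symm, classInner_irr_of_ne h1irr hl'irr hne.2.1,
      classInner_irr_of_ne hlirr hl'irr hne.2.2]
    norm_num
  let ψ : G → ℂ := Φ - fun _ => 1
  have h1G : IsIrrCharacter G (fun _ => (1 : ℂ)) := isIrrCharacter_one
  have hψgc : IsGeneralizedCharacter G ψ := isGC_sub hΦgc (isGC_of_irr h1G)
  have hψ2 : classInner ψ ψ = 2 := by
    simp only [ψ, classInner_sub_left, classInner_sub_right, hi1, hi1', hi3, classInner_irr_self h1G]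
    norm_num
  have hψ1 : ψ 1 = -1 := by
    change Φ 1 - 1 = -1
    rw [hzero 1 (by simp)]; ring
  have hψ0 : classInner ψ (fun _ => (1 : ℂ)) = 0 := by
    simp only [ψ, classInner_sub_left, hi1, classInner_irr_self h1G, sub_self]
  obtain ⟨χ, η, hχ, hη, hχη, hψeq⟩ :
      ∃ χ η : G → ℂ, IsIrrCharacter G χ ∧ IsIrrCharacter G η ∧ χ ≠ η ∧ ψ = χ - η := by
    obtain ⟨χ, η, s, t, hχ, hη, hne', hs, ht, he⟩ := norm_two_cases hψgc hψ2
    have hd := congrArg Complex.re (congrFun he 1)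
    rw [hψ1] at hd
    obtain ⟨n₁, hn₁⟩ := IsCharacter.exists_degree (IsIrrCharacter.isCharacter hχ)
    obtain ⟨n₂, hn₂⟩ := IsCharacter.exists_degree (IsIrrCharacter.isCharacter hη)
    have hp1 := re_degree_pos hχ
    have hp2 := re_degree_pos hη
    simp only [Pi.add_apply, Pi.smul_apply, smul_eq_mul, hn₁, hn₂] at hd
    rw [hn₁] at hp1; rw [hn₂] at hp2
    simp at hd hp1 hp2
    rcases hs with rfl | rfl <;> rcases ht with rfl | rfl <;> simp at hd
    · exfalso; linarith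
    · exact ⟨χ, η, hχ, hη, hne', by rw [he]; simp [sub_eq_add_neg]⟩
    · exact ⟨η, χ, hη, hχ, hne'.symm, by rw [he]; simp [sub_eq_add_neg, add_comm]⟩
    · exfalso
      have h1 : (1 : ℝ) ≤ n₁ := by exact_mod_cast hp1
      have h2 : (1 : ℝ) ≤ n₂ := by exact_mod_cast hp2
      linarith
  have hdeg : η 1 = χ 1 + 1 := by
    have := congrFun hψeq 1
    rw [hψ1, Pi.sub_apply] at this
    linear_combination this
  have hnot1 : η ≠ (fun _ => 1) ∧ χ ≠ (fun _ => 1) := by
    rw [hψeq, classInner_sub_left] at hψ0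
    refine ⟨fun e => ?_, fun e => ?_⟩
    · rw [← e, classInner_irr_self hη, classInner_irr_of_ne hχ hη hχη] at hψ0
      norm_num at hψ0
    · rw [← e, classInner_irr_self hχ, classInner_irr_of_ne hη hχ hχη.symm] at hψ0
      norm_num at hψ0
  have hΦ : ∀ g, Φ g = 1 + χ g - η g := by
    intro g
    have := congrFun hψeq g
    simp only [ψ, Pi.sub_apply] at this
    linear_combination this
  refine ⟨η, χ, hη, hχ, hnot1.1, hnot1.2, hdeg, fun g hg => ?_, ?_, ?_⟩
  · have := hΦ g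
    rw [hzero g hg] at this
    linear_combination this
  · have hsum : ∑ b : G, ∑ b' : G, Φ (b * σ.z * b⁻¹ * (b' * σ.z * b'⁻¹)) = 0 :=
      Finset.sum_eq_zero fun b _ => Finset.sum_eq_zero fun b' _ => hzero _ (σ.not_four_dvd
        (σ.orderOf_z ▸ MulEquiv.orderOf_eq (MulAut.conj b) σ.z)
        (σ.orderOf_z ▸ MulEquiv.orderOf_eq (MulAut.conj b') σ.z))
    have h11 := sum_pairs h1G σ.z
    simp only [hΦ, Finset.sum_sub_distrib, Finset.sum_add_distrib] at hsum
    rw [h11, sum_pairs hχ σ.z, sum_pairs hη σ.z] at hsum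
    have hd := IsIrrCharacter.apply_one_ne_zero hχ
    have hd1 := IsIrrCharacter.apply_one_ne_zero hη
    have hG : (Nat.card G : ℂ) ≠ 0 := Nat.cast_ne_zero.2 Nat.card_pos.ne'
    have hz := hΦ σ.z
    rw [hzero σ.z (by rw [σ.orderOf_z]; norm_num)] at hz
    have hηz : η σ.z = χ σ.z + 1 := by linear_combination hz
    rw [hηz, hdeg] at hsum
    rw [hdeg] at hd1
    field_simp at hsum
    have hsq : (χ 1 - χ σ.z) ^ 2 = 0 :=
      (mul_eq_zero.1 (show (Nat.card G : ℂ) ^ 2 * (χ 1 - χ σ.z) ^ 2 = 0 by linear_combination hsum)).resolve_left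
        (pow_ne_zero 2 hG)
    rw [hηz, hdeg, sub_eq_zero.1 (pow_eq_zero_iff two_ne_zero |>.1 hsq)]
  · intro e
    let w : σ.C := ⟨σ.a ^ 2, σ.A_le_C (pow_mem (Subgroup.mem_zpowers _) 2)⟩
    have hw : Nat.card σ.D ∣ orderOf (w : G) := by rw [Setup.D, Nat.card_zpowers]
    have hlw : l w = -1 := by
      rw [show w = (⟨σ.a, σ.A_le_C (Subgroup.mem_zpowers _)⟩ : σ.C) ^ 2 from Subtype.ext rfl, map_pow, hla,
        Complex.I_sq]
    have h4 := (hval w hw).symm.trans (hΦ _)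
    rw [hlw] at h4
    change _ = 1 + χ (σ.a ^ 2) - η (σ.a ^ 2) at h4
    rw [e, hdeg] at h4
    have hχa : χ (σ.a ^ 2) = χ 1 + 4 := by norm_num at h4; linear_combination -h4
    have hle := IsCharacter.norm_le (IsIrrCharacter.isCharacter hχ) (σ.a ^ 2)
    obtain ⟨m, hm⟩ := IsCharacter.exists_degree (IsIrrCharacter.isCharacter hχ)
    rw [hχa, hm, show ((m : ℂ) + 4) = ((m + 4 : ℕ) : ℂ) by push_cast; ring, Complex.norm_natCast,
      Complex.natCast_re] at hle
    push_cast at hle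
    linarith

/-- A normal subgroup containing all involutions, with Sylow 2-subgroup inside `⟨a⟩` and nonabelian
quotient. -/
theorem exists_normal [Fintype G] : ∃ M : Subgroup G, M.Normal ∧ σ.z ∈ M ∧ ¬ commutator G ≤ M ∧
    (σ.S : Subgroup G) ⊓ M ≤ Subgroup.zpowers σ.a := by
  obtain ⟨χ₁, χ₂, h1, h2, -, -, hdeg, -, hz, ha⟩ := σ.exists_pair
  let M := Codegree.kerSub (⟨χ₁, h1⟩ : IrrCharacter G)
  refine ⟨M, inferInstance, hz, ?_, ?_⟩
  · intro hle
    obtain ⟨ψ, hψ⟩ := Codegree.exists_quot ⟨χ₁, h1⟩ M le_rfl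
    have hcomm : ∀ x y : G ⧸ M, x * y = y * x := by
      intro x y
      obtain ⟨x, rfl⟩ := QuotientGroup.mk_surjective x
      obtain ⟨y, rfl⟩ := QuotientGroup.mk_surjective y
      rw [← QuotientGroup.mk_mul, ← QuotientGroup.mk_mul, QuotientGroup.eq]
      have : ⁅y⁻¹, x⁻¹⁆ ∈ M := hle (Subgroup.commutator_mem_commutator (Subgroup.mem_top _) (Subgroup.mem_top _))
      rw [commutatorElement_def] at this
      simpa [mul_assoc] using this
    have e := apply_one_eq_one_of_comm hcomm ψ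
    rw [← QuotientGroup.mk_one, hψ 1] at e
    change χ₁ 1 = 1 at e
    rw [hdeg] at e
    exact IsIrrCharacter.apply_one_ne_zero h2 (by linear_combination e)
  · intro x hx
    rcases σ.cases_S x hx.1 with ⟨i, rfl⟩ | ⟨i, rfl⟩
    · exact pow_mem (Subgroup.mem_zpowers _) i
    · exfalso
      apply ha
      have hmem : σ.a * (σ.b * σ.a ^ i) * σ.a⁻¹ * (σ.b * σ.a ^ i)⁻¹ ∈ M :=
        mul_mem ((inferInstance : M.Normal).conj_mem _ hx.2 σ.a) (inv_mem hx.2)
      have e : σ.a * (σ.b * σ.a ^ i) * σ.a⁻¹ * (σ.b * σ.a ^ i)⁻¹ = σ.a ^ 2 := by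
        calc _ = σ.a * (σ.b * (σ.a ^ i * σ.a⁻¹ * (σ.a ^ i)⁻¹) * σ.b⁻¹) := by group
          _ = σ.a * (σ.b * σ.a * σ.b⁻¹)⁻¹ := by
              rw [((Commute.refl σ.a).inv_left.pow_right i).eq.symm]; group
          _ = _ := by rw [σ.conj_a, inv_inv, pow_two]
      rw [e] at hmem
      exact hmem

end Setup

end Cfsg.Agent.BS16
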