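/-
Brauer–Suzuki for quaternion Sylow 2-subgroups of order at least 16, part 3: consequences.
Main results: `Setup.isCyclic_of_le_normal`, `Setup.card_center` (the theorem).
-/
import Cfsg.Agent.Lib.BS16.Main

set_option autoImplicit false

namespace Cfsg.Agent.BS16.Setup

variable {G : Type*} [Group G] [Finite G] (σ : Setup G)

/-- Every 2-subgroup of a normal subgroup meeting `S` inside `⟨a⟩` is cyclic. -/
theorem isCyclic_of_le_normal {M : Subgroup G} [hM : M.Normal]
    (hSM : (σ.S : Subgroup G) ⊓ M ≤ Subgroup.zpowers σ.a) {P : Subgroup G} (hP : IsPGroup 2 P) (hPM : P ≤ M) :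
    IsCyclic P := by
  obtain ⟨T, hT⟩ := hP.exists_le_sylow
  obtain ⟨g, hg⟩ := MulAction.exists_smul_eq G T σ.S
  have hmem : P.map (MulAut.conj g).toMonoidHom ≤ Subgroup.zpowers σ.a := by
    rintro _ ⟨x, hx, rfl⟩
    exact hSM ⟨hg ▸ ⟨x, hT hx, rfl⟩, hM.conj_mem x (hPM hx) g⟩
  haveI : IsCyclic (Subgroup.zpowers σ.a) := Subgroup.isCyclic_zpowers _
  exact isCyclic_of_injective
    ((Subgroup.inclusion hmem).comp (P.equivMapOfInjective _ (MulAut.conj g).injective).toMonoidHom)
    ((Subgroup.inclusion_injective hmem).comp (MulEquiv.injective _))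

theorem z_mem_center [Fintype G] (hO : ∀ N : Subgroup G, N.Normal → Odd (Nat.card N) → N = ⊥) :
    σ.z ∈ Subgroup.center G := by
  obtain ⟨M, hM, hzM, -, hSM⟩ := σ.exists_normal
  have h2 : 2 ∣ Nat.card M := σ.orderOf_z ▸ Subgroup.orderOf_dvd_natCard M hzM
  have hmin : (Nat.card M).minFac = 2 := Nat.minFac_eq_two_iff _ |>.2 h2
  obtain ⟨P⟩ : Nonempty (Sylow 2 M) := inferInstance
  haveI hcyc : IsCyclic P := by
    have h := σ.isCyclic_of_le_normal hSM (P.2.map M.subtype) (Subgroup.map_subtype_le _)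
    exact isCyclic_of_injective ((P : Subgroup M).equivMapOfInjective _ M.subtype_injective).toMonoidHom
      (MulEquiv.injective _)
  have hcomp := IsCyclic.isComplement' hmin hcyc
  set K' := (MonoidHom.transferSylow P (hcyc.normalizer_le_centralizer hmin)).ker
  have hodd : Odd (Nat.card K') := by
    rw [← hcomp.index_eq_card, Nat.odd_iff, ← Nat.two_dvd_ne_zero]
    exact P.not_dvd_index
  haveI : K'.Characteristic := by
    rw [Subgroup.characteristic_iff_comap_eq]
    intro φ
    refine Subgroup.eq_of_le_of_card_ge (fun x hx => ?_)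
      (Nat.card_congr ((MulEquiv.subgroupCongr (Subgroup.comap_equiv_eq_map_symm φ K')).trans
        (K'.equivMapOfInjective φ.symm.toMonoidHom φ.symm.injective).symm).toEquiv).ge
    rw [MonoidHom.mem_ker, ← orderOf_eq_one_iff]
    obtain ⟨k, hk⟩ := P.2.exists_card_eq
    refine Nat.eq_one_of_dvd_coprimes ?_ (orderOf_map_dvd _ _) (hk ▸ orderOf_dvd_natCard _)
    have : orderOf x = orderOf (φ x) := (MulEquiv.orderOf_eq φ x).symm
    rw [this]
    exact (Nat.coprime_two_right.2 (Odd.of_dvd_nat hodd (Subgroup.orderOf_dvd_natCard K' hx))).pow_right k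
  have hbot : K'.map M.subtype = ⊥ := hO _ inferInstance
    (by rwa [← Nat.card_congr (K'.equivMapOfInjective _ M.subtype_injective).toEquiv])
  rw [Subgroup.map_eq_bot_iff_of_injective _ M.subtype_injective] at hbot
  have hPtop : (P : Subgroup M) = ⊤ := by
    apply Subgroup.eq_top_of_card_eq
    rw [← hcomp.card_mul, hbot, Subgroup.card_bot, one_mul]
  have hMP : IsPGroup 2 M := (hPtop ▸ P.2 : IsPGroup 2 (⊤ : Subgroup M)).of_equiv Subgroup.topEquiv
  rw [Subgroup.mem_center_iff]
  intro g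
  suffices g * σ.z * g⁻¹ = σ.z from mul_inv_eq_iff_eq_mul.1 this
  haveI := σ.isCyclic_of_le_normal hSM hMP le_rfl
  classical
  haveI := Fintype.ofFinite M
  have ho : ∀ x : G, orderOf x = 2 → x ^ 2 = 1 := fun x h => h ▸ pow_orderOf_eq_one x
  have hg2 : orderOf (g * σ.z * g⁻¹) = 2 := (MulEquiv.orderOf_eq (MulAut.conj g) σ.z).trans σ.orderOf_z
  have key := IsCyclic.card_pow_eq_one_le (α := M) (n := 2) two_pos
  have hgM : g * σ.z * g⁻¹ ∈ M := hM.conj_mem _ hzM g
  by_contra hne
  have h3 : ({1, ⟨σ.z, hzM⟩, ⟨g * σ.z * g⁻¹, hgM⟩} : Finset M) ⊆ Finset.univ.filter (fun x : M => x ^ 2 = 1) := by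
    intro x hx
    simp only [Finset.mem_insert, Finset.mem_singleton] at hx
    rw [Finset.mem_filter]
    refine ⟨Finset.mem_univ _, ?_⟩
    rcases hx with rfl | rfl | rfl
    · exact one_pow 2
    · exact Subtype.ext (ho _ σ.orderOf_z)
    · exact Subtype.ext (ho _ hg2)
  have := (Finset.card_le_card h3).trans key
  have hz1 : σ.z ≠ 1 := fun e => by simpa [e] using σ.orderOf_z
  have hg1 : g * σ.z * g⁻¹ ≠ 1 := fun e => by rw [e, orderOf_one] at hg2; norm_num at hg2
  rw [Finset.card_eq_three.2 ⟨1, ⟨σ.z, hzM⟩, ⟨g * σ.z * g⁻¹, hgM⟩,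
    fun e => hz1 (congrArg Subtype.val e).symm, fun e => hg1 (congrArg Subtype.val e).symm,
    fun e => hne (congrArg Subtype.val e).symm, rfl⟩] at this
  omega

include σ in
/-- The Brauer–Suzuki theorem for a quaternion Sylow 2-subgroup of order at least 16. -/
theorem card_center [Fintype G] (hO : ∀ N : Subgroup G, N.Normal → Odd (Nat.card N) → N = ⊥) :
    Nat.card (Subgroup.center G) = 2 := by
  have hz := σ.z_mem_center hO
  have hpow : ∀ (x : G) (q : ℕ), q.Prime → x ∈ Subgroup.center G → orderOf x = q → q = 2 := by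
    intro x q hq hx ho
    by_contra hq2
    haveI : (Subgroup.zpowers x).Normal := ⟨fun y hy g => by
      have hyc : y ∈ Subgroup.center G := (Subgroup.zpowers_le.2 hx) hy
      rwa [Subgroup.mem_center_iff.1 hyc g, mul_inv_cancel_right]⟩
    have := hO (Subgroup.zpowers x) inferInstance (by rw [Nat.card_zpowers, ho]; exact hq.odd_of_ne_two hq2)
    rw [Subgroup.zpowers_eq_bot] at this
    rw [this, orderOf_one] at ho
    exact hq.ne_one ho.symm
  have hsub : Subgroup.center G = Subgroup.zpowers σ.z := by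
    refine le_antisymm (fun x hx => ?_) (Subgroup.zpowers_le.2 hz)
    have h2 : IsPGroup 2 (Subgroup.center G) := by
      refine IsPGroup.of_card (n := (Nat.card (Subgroup.center G)).primeFactorsList.length) ?_
      refine Nat.eq_prime_pow_of_unique_prime_dvd Nat.card_pos.ne' fun {q} hq hqd => ?_
      haveI := Fact.mk hq
      obtain ⟨y, hy⟩ := exists_prime_orderOf_dvd_card' q hqd
      exact hpow y q hq y.2 (by rw [Subgroup.orderOf_coe]; exact hy)
    obtain ⟨T, hT⟩ := h2.exists_le_sylow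
    obtain ⟨g, hg⟩ := MulAction.exists_smul_eq G T σ.S
    have hxS : x ∈ (σ.S : Subgroup G) := by
      have : g * x * g⁻¹ ∈ (σ.S : Subgroup G) := hg ▸ ⟨x, hT hx, rfl⟩
      rwa [Subgroup.mem_center_iff.1 hx g, mul_inv_cancel_right] at this
    have hc := Subgroup.mem_center_iff.1 hx σ.b
    rcases σ.cases_S x hxS with ⟨i, rfl⟩ | ⟨i, rfl⟩
    · have h : σ.b * σ.a ^ i * σ.b⁻¹ = (σ.a ^ i)⁻¹ := by rw [← conj_pow, σ.conj_a, inv_pow]
      rw [hc, mul_inv_cancel_right, eq_inv_iff_mul_eq_one, ← pow_add, ← two_mul] at h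
      by_cases h1 : σ.a ^ i = 1
      · rw [h1]; exact one_mem _
      · have : σ.a ^ i = σ.z := σ.eq_z hxS (orderOf_eq_prime (by rw [← pow_mul, mul_comm]; exact h) h1)
        rw [this]; exact Subgroup.mem_zpowers _
    · exfalso
      refine σ.not_commute_D (i := i) ?_
      exact Subgroup.mem_center_iff.1 hx (σ.a ^ 2)
  rw [hsub, Nat.card_zpowers, σ.orderOf_z]

end Cfsg.Agent.BS16.Setup
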